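import Mathlib

set_option autoImplicit false

namespace Groth.Agent.PLin2

theorem dvd_of_zsmul_relation {F0 W : Type*} [Field F0] [AddCommGroup W] [Module F0 W] (p : ℕ)
    [CharP F0 p] {ι : Type*} [Fintype ι] (b : ι → W) (hb : LinearIndependent F0 b)
    (c : ι → ℤ) (h : ∑ i, c i • b i = 0) (i : ι) : (p : ℤ) ∣ c i := by
  have h' : ∑ i, ((c i : ℤ) : F0) • b i = 0 := by simpa [Int.cast_smul_eq_zsmul] using h
  exact (CharP.intCast_eq_zero_iff F0 p _).mp (Fintype.linearIndependent_iff.mp hb _ h' i)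

theorem trace_eq_of_isCompl {K V : Type*} [Field K] [AddCommGroup V] [Module K V]
    [FiniteDimensional K V] (T : V →ₗ[K] V) (U N : Submodule K V) (h : IsCompl U N)
    (hU : ∀ x ∈ U, T x ∈ U) (hN : ∀ x ∈ N, T x ∈ N)
    (hnil : ∀ x ∈ N, ∃ m : ℕ, (T ^ m) x = 0) :
    LinearMap.trace K V T = LinearMap.trace K U (T.restrict hU) := by
  have h1 : IsNilpotent (T.restrict hN) := by
    rw [Module.End.isNilpotent_iff_of_finite]
    rintro ⟨x, hx⟩
    obtain ⟨m, hm⟩ := hnil x hx
    refine ⟨m, Subtype.ext ?_⟩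
    rw [Module.End.pow_restrict m, LinearMap.restrict_coe_apply]
    simpa using hm
  have h2 : LinearMap.trace K N (T.restrict hN) = 0 :=
    (LinearMap.isNilpotent_trace_of_isNilpotent h1).eq_zero
  rw [← add_zero (LinearMap.trace K U (T.restrict hU)), ← h2, ← LinearMap.trace_prodMap',
    ← LinearMap.trace_conj' ((T.restrict hU).prodMap (T.restrict hN)) (Submodule.prodEquivOfIsCompl U N h)]
  congr 1
  refine LinearMap.ext fun y => ?_
  obtain ⟨⟨a, b⟩, rfl⟩ := (Submodule.prodEquivOfIsCompl U N h).surjective y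
  simp [LinearEquiv.conj_apply_apply]

end Groth.Agent.PLin2
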